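import Groth.Prelude.Def_DerCA
import Groth.Agent.ARLib.Sys
import Mathlib.CategoryTheory.Triangulated.Pretriangulated

/-!
# Essentially constant systems in triangulated categories
-/

set_option backward.isDefEq.respectTransparency false
set_option backward.isDefEq.respectTransparency.types false
set_option linter.style.haveILetI false
set_option linter.unusedSectionVars false
set_option autoImplicit false

universe v u

open CategoryTheory Limits Pretriangulated Opposite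
open ARSys (PS tr)
open Groth.Agent.ARLib (tr_tr tr_tr_assoc tr_nat tr_nat_assoc tr_rfl)

namespace Groth.Agent.EssConst

variable {D : Type u} [Category.{v} D] [Preadditive D] [HasZeroObject D] [HasShift D ℤ]
  [∀ n : ℤ, (shiftFunctor D n).Additive] [Pretriangulated D]

/-- A component of a cone. -/
abbrev cn {X : PS D} {A : D} (c : (Functor.const ℕᵒᵖ).obj A ⟶ X) (n : ℕ) : A ⟶ X.obj (op n) := c.app (op n)

theorem cone_tr {X : PS D} {A : D} (c : (Functor.const ℕᵒᵖ).obj A ⟶ X) {n m : ℕ} (h : n ≤ m) :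
    cn c m ≫ tr X h = cn c n := by
  have := c.naturality (homOfLE h).op
  simp only [Functor.const_obj_map] at this
  exact this.symm.trans (Category.id_comp _)

theorem decomposition (X : PS D) (A : D) (c : (Functor.const ℕᵒᵖ).obj A ⟶ X)
    (hX : DerCA.IsEssConstant X A c) :
    ∃ (i : ℕ) (Z : ℕ → D) (e : ∀ j : ℕ, X.obj (op (i + j)) ≅ A ⊞ Z j)
      (z : ∀ j k : ℕ, j ≤ k → (Z k ⟶ Z j)),
      (∀ j : ℕ, cn c (i + j) ≫ (e j).hom = biprod.inl) ∧
      (∀ (j k : ℕ) (hjk : j ≤ k), (e k).inv ≫ tr X (Nat.add_le_add_left hjk i) =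
        biprod.map (𝟙 A) (z j k hjk) ≫ (e j).inv) ∧
      (∀ j : ℕ, ∃ (k : ℕ) (hjk : j ≤ k), z j k hjk = 0) := by
  obtain ⟨i, s, hs, hfac⟩ := hX
  replace hs : cn c i ≫ s = 𝟙 A := hs
  replace hfac : ∀ j, ∃ (k : ℕ) (hi : i ≤ k) (hj : j ≤ k), tr X hj = tr X hi ≫ s ≫ cn c j := hfac
  let t : ∀ j, X.obj (op (i + j)) ⟶ A := fun j => tr X (Nat.le_add_right i j) ≫ s
  have ht : ∀ j, cn c (i + j) ≫ t j = 𝟙 A := fun j => by
    rw [← Category.assoc, cone_tr, hs]
  have htt : ∀ {j k : ℕ} (h : j ≤ k), tr X (Nat.add_le_add_left h i) ≫ t j = t k := fun {j k} h => by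
    simp only [t, tr_tr_assoc]
  have hex : ∀ j, ∃ (Z : D) (e : X.obj (op (i + j)) ≅ A ⊞ Z),
      cn c (i + j) ≫ e.hom = biprod.inl ∧ e.hom ≫ biprod.fst = t j := by
    intro j
    obtain ⟨Z, g, h, hT⟩ := distinguished_cocone_triangle (cn c (i + j))
    have h0 : h = 0 := by
      have h31 : h ≫ (cn c (i + j))⟦(1 : ℤ)⟧' = 0 := comp_distTriang_mor_zero₃₁ _ hT
      calc h = h ≫ (cn c (i + j) ≫ t j)⟦(1 : ℤ)⟧' := by
            rw [ht j, CategoryTheory.Functor.map_id]; exact (Category.comp_id h).symm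
        _ = 0 := by rw [Functor.map_comp, reassoc_of% h31, zero_comp]
    obtain ⟨e₀, he₀'⟩ : ∃ e₀ : X.obj (op (i + j)) ≅ A ⊞ Z, cn c (i + j) ≫ e₀.hom = biprod.inl :=
      let ⟨e, he, _⟩ := exists_iso_binaryBiproduct_of_distTriang _ hT h0
      ⟨e, he⟩
    have he₀i : biprod.inl ≫ e₀.inv = cn c (i + j) := by
      rw [← he₀', Category.assoc, e₀.hom_inv_id, Category.comp_id]
    have hone : biprod.inl ≫ e₀.inv ≫ t j = 𝟙 A := by rw [reassoc_of% he₀i, ht]
    let sh : A ⊞ Z ≅ A ⊞ Z :=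
      { hom := biprod.lift (e₀.inv ≫ t j) biprod.snd
        inv := biprod.lift (biprod.fst - biprod.snd ≫ biprod.inr ≫ e₀.inv ≫ t j) biprod.snd
        hom_inv_id := by
          apply biprod.hom_ext
          · simp only [Category.assoc, biprod.lift_fst, Preadditive.comp_sub, biprod.lift_snd_assoc,
              Category.id_comp]
            apply biprod.hom_ext' <;> simp [hone]
          · simp
        inv_hom_id := by
          apply biprod.hom_ext
          · simp only [Category.assoc, biprod.lift_fst, Category.id_comp]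
            apply biprod.hom_ext' <;> simp [biprod.lift_eq, hone]
          · simp }
    refine ⟨Z, e₀ ≪≫ sh, ?_, by simp [sh]⟩
    rw [Iso.trans_hom, reassoc_of% he₀']
    apply biprod.hom_ext <;> simp [sh, hone]
  choose Z e he1 he2 using hex
  refine ⟨i, Z, e, fun j k h => biprod.inr ≫ (e k).inv ≫ tr X (Nat.add_le_add_left h i) ≫ (e j).hom ≫ biprod.snd,
    he1, fun j k h => ?_, fun j => ?_⟩
  · have hi : biprod.inl ≫ (e k).inv = cn c (i + k) := by
      rw [← he1 k, Category.assoc, Iso.hom_inv_id, Category.comp_id]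
    have hf : (e k).inv ≫ t k = biprod.fst := by rw [← he2 k, Iso.inv_hom_id_assoc]
    rw [Iso.eq_comp_inv]
    apply biprod.hom_ext'
    · rw [Category.assoc, reassoc_of% hi, ← Category.assoc (cn c (i + k)), cone_tr, he1 j]
      simp
    · apply biprod.hom_ext
      · simp only [Category.assoc, he2, biprod.map_fst, Category.comp_id]
        rw [htt h, hf, biprod.inr_fst]
      · simp
  · obtain ⟨k₀, hi, hj, htr⟩ := hfac (i + j)
    obtain ⟨k, rfl⟩ := Nat.exists_eq_add_of_le hi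
    refine ⟨k, by lia, ?_⟩
    show biprod.inr ≫ _ = 0
    rw [htr]
    simp only [Category.assoc, reassoc_of% he1 j, biprod.inl_snd, comp_zero]

theorem two_out_of_three (X Y Z : PS D) (f : X ⟶ Y) (g : Y ⟶ Z) (h : Z ⟶ X ⋙ shiftFunctor D (1 : ℤ))
    (hT : ∀ n : ℕ, Triangle.mk (f.app (op n)) (g.app (op n)) (h.app (op n)) ∈ Pretriangulated.distinguishedTriangles)
    {A C : D} (cA : (Functor.const ℕᵒᵖ).obj A ⟶ X) (hA : DerCA.IsEssConstant X A cA)
    (cC : (Functor.const ℕᵒᵖ).obj C ⟶ Z) (hC : DerCA.IsEssConstant Z C cC) :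
    ∃ (B : D) (cB : (Functor.const ℕᵒᵖ).obj B ⟶ Y), DerCA.IsEssConstant Y B cB := by
  obtain ⟨iA, sA, hsA, hfA⟩ := hA
  obtain ⟨iC, sC, hsC, hfC⟩ := hC
  replace hsA : cn cA iA ≫ sA = 𝟙 A := hsA
  replace hsC : cn cC iC ≫ sC = 𝟙 C := hsC
  replace hfA : ∀ j, ∃ (k : ℕ) (hi : iA ≤ k) (hj : j ≤ k), tr X hj = tr X hi ≫ sA ≫ cn cA j := hfA
  replace hfC : ∀ j, ∃ (k : ℕ) (hi : iC ≤ k) (hj : j ≤ k), tr Z hj = tr Z hi ≫ sC ≫ cn cC j := hfC
  have trh : ∀ {n m : ℕ} (hnm : n ≤ m),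
      h.app (op m) ≫ (tr X hnm)⟦(1 : ℤ)⟧' = tr Z hnm ≫ h.app (op n) :=
    fun {n m} hnm => (h.naturality (homOfLE hnm).op).symm
  let δ : C ⟶ A⟦(1 : ℤ)⟧ := cn cC iA ≫ h.app (op iA) ≫ sA⟦(1 : ℤ)⟧'
  obtain ⟨B, ι, p, hB⟩ := distinguished_cocone_triangle₂ δ
  have sq : ∀ n, δ ≫ (cn cA n)⟦(1 : ℤ)⟧' = cn cC n ≫ h.app (op n) := fun n => by
    obtain ⟨k, h1, h2, e⟩ := hfA n
    simp only [δ, Category.assoc, ← Functor.map_comp]
    rw [← cone_tr cC h1, Category.assoc, ← reassoc_of% trh h1, ← Functor.map_comp, ← e, trh h2,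
      ← Category.assoc, cone_tr]
  have hβ : ∀ n, ∃ β : B ⟶ Y.obj (op n), ι ≫ β = cn cA n ≫ f.app (op n) ∧ p ≫ cn cC n = β ≫ g.app (op n) :=
    fun n => complete_distinguished_triangle_morphism₂ _ _ hB (hT n) (cn cA n) (cn cC n) (sq n)
  choose β hβ₁ hβ₂ using hβ
  obtain ⟨m, hmC, hmA, em⟩ := hfC iA
  obtain ⟨r, hr₁, hr₂⟩ : ∃ r : Y.obj (op m) ⟶ B, f.app (op m) ≫ r = (tr X hmA ≫ sA) ≫ ι ∧
      g.app (op m) ≫ tr Z hmC ≫ sC = r ≫ p := complete_distinguished_triangle_morphism₂ _ _ (hT m) hB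
    (tr X hmA ≫ sA) (tr Z hmC ≫ sC) (by
      show h.app (op m) ≫ (tr X hmA ≫ sA)⟦(1 : ℤ)⟧' = (tr Z hmC ≫ sC) ≫ δ
      rw [Functor.map_comp, reassoc_of% trh hmA, em]
      simp only [δ, Category.assoc])
  let R : ∀ k, m ≤ k → (Y.obj (op k) ⟶ B) := fun k hk => tr Y hk ≫ r
  have hR₁ : ∀ k (hk : m ≤ k), f.app (op k) ≫ R k hk = tr X (hmA.trans hk) ≫ sA ≫ ι := fun k hk => by
    simp only [R]
    rw [← tr_nat_assoc f hk, hr₁, Category.assoc, tr_tr_assoc]
  have hR₂ : ∀ k (hk : m ≤ k), R k hk ≫ p = g.app (op k) ≫ tr Z (hmC.trans hk) ≫ sC := fun k hk => by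
    simp only [R]
    rw [Category.assoc, ← hr₂, tr_nat_assoc g hk, tr_tr_assoc]
  have hRtr : ∀ {k l : ℕ} (hk : m ≤ k) (hl : k ≤ l), tr Y hl ≫ R k hk = R l (hk.trans hl) :=
    fun {k l} hk hl => by simp only [R, tr_tr_assoc]
  have hiso : ∀ k (hk : m ≤ k), IsIso (β k ≫ R k hk) := fun k hk => by
    refine isIso₂_of_isIso₁₃
      (Triangle.homMk (Triangle.mk ι p δ) (Triangle.mk ι p δ) (𝟙 A) (β k ≫ R k hk) (𝟙 C) ?_ ?_ ?_)
      hB hB (show IsIso (𝟙 A) from inferInstance) (show IsIso (𝟙 C) from inferInstance)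
    · show ι ≫ β k ≫ R k hk = 𝟙 A ≫ ι
      rw [reassoc_of% hβ₁ k, hR₁, ← Category.assoc (cn cA k), cone_tr, reassoc_of% hsA,
        Category.id_comp]
    · show p ≫ 𝟙 C = (β k ≫ R k hk) ≫ p
      rw [Category.assoc, hR₂, ← reassoc_of% hβ₂ k, ← Category.assoc (cn cC k), cone_tr, hsC]
    · show δ ≫ (𝟙 A)⟦(1 : ℤ)⟧' = 𝟙 C ≫ δ
      simp
  have hsplit : ∀ k (hk : m ≤ k), ∃ b : B ⟶ Y.obj (op k), b ≫ R k hk = 𝟙 B := fun k hk => by
    haveI := hiso k hk
    exact ⟨inv (β k ≫ R k hk) ≫ β k, by rw [Category.assoc, IsIso.inv_hom_id]⟩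
  have hfact : ∀ n, ∃ (l : ℕ) (hml : m ≤ l) (hnl : n ≤ l) (w : B ⟶ Y.obj (op n)),
      R l hml ≫ w = tr Y hnl := by
    intro n
    obtain ⟨k₀, hk1, hk2, ek⟩ := hfA n
    let k := max k₀ m
    obtain ⟨l₀, hl1, hl2, el⟩ := hfC k
    have hmk : m ≤ k := le_max_right _ _
    have hnk : n ≤ k := hk2.trans (le_max_left _ _)
    let l := max l₀ k
    have hkl : k ≤ l := le_max_right _ _
    obtain ⟨b, hb⟩ := hsplit l (hmk.trans hkl)
    refine ⟨l, hmk.trans hkl, hnk.trans hkl, b ≫ tr Y (hnk.trans hkl), ?_⟩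
    let q := 𝟙 (Y.obj (op l)) - R l (hmk.trans hkl) ≫ b
    have hq : q ≫ R l (hmk.trans hkl) = 0 := by
      simp only [q, Preadditive.sub_comp, Category.assoc, hb, Category.id_comp, Category.comp_id, sub_self]
    have hqg : (q ≫ tr Y hkl) ≫ g.app (op k) = 0 := by
      have eZ : tr Z hkl = tr Z (hmC.trans (hmk.trans hkl)) ≫ sC ≫ cn cC k := by
        rw [← tr_tr Z hl2 (le_max_left l₀ k), el, tr_tr_assoc]
      rw [Category.assoc, tr_nat, eZ, ← reassoc_of% hR₂ l (hmk.trans hkl), reassoc_of% hq, zero_comp]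
    obtain ⟨u, hu⟩ := Triangle.coyoneda_exact₂ _ (hT k) (q ≫ tr Y hkl) hqg
    replace hu : q ≫ tr Y hkl = u ≫ f.app (op k) := hu
    have eX : tr X hnk = tr X (hmA.trans hmk) ≫ sA ≫ cn cA n := by
      rw [← tr_tr X hk2 (le_max_left k₀ m), ek, tr_tr_assoc]
    have h0 : q ≫ tr Y (hnk.trans hkl) = 0 := by
      rw [← tr_tr Y hnk hkl, reassoc_of% hu, ← tr_nat, eX]
      simp only [Category.assoc]
      rw [← hβ₁ n, ← reassoc_of% hR₁ k hmk, ← reassoc_of% hu, reassoc_of% hRtr hmk hkl,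
        reassoc_of% hq, zero_comp]
    rw [← sub_eq_zero, ← neg_sub, neg_eq_zero]
    simpa [q, Preadditive.sub_comp] using h0
  choose l hml hnl w hw using hfact
  have huniq : ∀ {n L : ℕ} (hL : l n ≤ L), R L ((hml n).trans hL) ≫ w n = tr Y ((hnl n).trans hL) :=
    fun {n L} hL => by rw [← hRtr (hml n) hL, Category.assoc, hw, tr_tr]
  have hcancel : ∀ {L : ℕ} (hL : m ≤ L) {T : D} (a b : B ⟶ T), R L hL ≫ a = R L hL ≫ b → a = b :=
    fun {L} hL {T} a b hab => by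
      obtain ⟨β', hβ'⟩ := hsplit L hL
      calc a = β' ≫ (R L hL ≫ a) := by rw [← Category.assoc, hβ', Category.id_comp]
        _ = β' ≫ (R L hL ≫ b) := by rw [hab]
        _ = b := by rw [← Category.assoc, hβ', Category.id_comp]
  refine ⟨B, { app := fun n => w n.unop, naturality := ?_ }, m, r, ?_, fun n => ?_⟩
  · rintro ⟨n⟩ ⟨n'⟩ φ
    have hle : n' ≤ n := leOfHom φ.unop
    obtain rfl : φ = (homOfLE hle).op := Quiver.Hom.unop_inj (Subsingleton.elim _ _)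
    show 𝟙 B ≫ w n' = w n ≫ tr Y hle
    rw [Category.id_comp]
    refine hcancel (L := max (l n) (l n')) ((hml n).trans (le_max_left _ _)) _ _ ?_
    rw [reassoc_of% huniq (n := n) (le_max_left _ _), tr_tr]
    exact huniq (n := n') (le_max_right _ _)
  · refine hcancel (hml m) _ _ ?_
    show R (l m) (hml m) ≫ w m ≫ r = R (l m) (hml m) ≫ 𝟙 B
    rw [reassoc_of% hw m, Category.comp_id]
  · refine ⟨l n, hml n, hnl n, ?_⟩
    show tr Y (hnl n) = tr Y (hml n) ≫ r ≫ w n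
    rw [← hw n]
    simp only [R, Category.assoc]

end Groth.Agent.EssConst
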